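import Cfsg.Agent.H870.IMR3
import Cfsg.Agent.H870.IMLocal
import Cfsg.Agent.H870.Fi23Fix
import Cfsg.Agent.H839.SeventeenMain_m3
import Cfsg.Agent.SporRec.Fi23Index
import Cfsg.Agent.H593.IMCount2
import Cfsg.Agent.H621.AltChar
import Cfsg.Agent.H540.SmallSym
import Cfsg.Agent.Prune
set_option linter.all false
prune_inst 0x7f00000000000000000000000000000000000000000000000000000000000000000000000000000000000000000000000000000000000000000000000000000000000000000000000000000000000000003fffffffffffffffffffffffffffbeffbdffffffff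
open scoped Cfsg.Agent.FastGrp

/-!
# Ito-Michler for `Fi₂₃` (helper870)

2, 3, 11, 13, 17, 23: the rank 3 permutation character on the 31671 transpositions. 5: the centralizer `5 × S₇`.
7: the centralizer `7 × S₅`, and more than 49 conjugacy classes.
-/

set_option autoImplicit false
set_option maxRecDepth 100000

namespace Cfsg.Agent.H870.IMFi23

open Cfsg Cfsg.Agent.H33 Subgroup Cfsg.Agent.H870.IMR3 Cfsg.Agent.H870.IMLocal Cfsg.Agent.LThreeFi23
open Cfsg.Agent.H690.Spor.RankThree
open Cfsg.Spor (Fi23)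

universe u v

/-! ### The structure of the centralizer -/

open Cfsg.Agent.H838.Transport in
/-- `C(X) = X × S` with `S ≅ S_n`. -/
theorem exists_surj {G : Type*} [Group G] {m n : ℕ} {D : Set G} {X : Subgroup G}
    (hX : X ≤ centralizer (X : Set G)) (h : NormStr m n D X) :
    ∃ f : ↥(centralizer (X : Set G)) →* Equiv.Perm (Fin n), Function.Surjective f ∧
      f.ker = X.subgroupOf (centralizer (X : Set G)) := by
  obtain ⟨F, -, hXF, hFC, hFS, hcomm, hsup, ⟨e⟩⟩ := h
  obtain ⟨S, hS⟩ : ∃ S, S = closure (D ∩ (centralizer (X : Set G) : Set G)) := ⟨_, rfl⟩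
  rw [← hS] at e hFS hcomm hsup
  have hSC : S ≤ centralizer (X : Set G) := by
    rw [hS, closure_le]
    exact Set.inter_subset_right
  -- the decomposition
  have hex : ∀ c ∈ centralizer (X : Set G), ∃ x ∈ X, ∃ s ∈ S, c = x * s := by
    intro c hc
    have h1 : c ∈ F ⊔ S := by
      rw [hsup]
      exact centralizer_le_normalizer _ hc
    have h2 : ∃ x ∈ F, ∃ s ∈ S, c = x * s := by
      have hcm : ∀ (a : ↥F) (b : ↥S), Commute (F.subtype a) (S.subtype b) := fun a b => hcomm a a.2 b b.2
      have hle : F ⊔ S ≤ (MonoidHom.noncommCoprod F.subtype S.subtype hcm).range := by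
        refine sup_le ?_ ?_
        · intro x hx
          exact ⟨(⟨x, hx⟩, 1), by simp only [_root_.MonoidHom.noncommCoprod_apply, _root_.Subgroup.subtype_apply, _root_.OneMemClass.coe_one, _root_.mul_one]⟩
        · intro x hx
          exact ⟨(1, ⟨x, hx⟩), by simp only [_root_.MonoidHom.noncommCoprod_apply, _root_.Subgroup.subtype_apply, _root_.OneMemClass.coe_one, _root_.one_mul]⟩
      obtain ⟨⟨a, b⟩, hab⟩ := hle h1
      exact ⟨a, a.2, b, b.2, by rw [← hab]; simp⟩
    obtain ⟨x, hx, s, hs, rfl⟩ := h2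
    refine ⟨x, ?_, s, hs, rfl⟩
    rw [← hFC]
    refine ⟨hx, ?_⟩
    have h3 := mul_mem hc (inv_mem (hSC hs))
    rwa [mul_inv_cancel_right] at h3
  have hcm : ∀ (a : ↥X) (b : ↥S), Commute (inclusion hX a) (inclusion hSC b) := fun a b =>
    Subtype.ext (hcomm a (hXF a.2) b b.2)
  let φ : ↥X × ↥S →* ↥(centralizer (X : Set G)) := MonoidHom.noncommCoprod (inclusion hX) (inclusion hSC) hcm
  have hφ : ∀ a b, ((φ (a, b) : ↥(centralizer (X : Set G))) : G) = a * b := fun a b => by
    simp [φ]
  have hbij : Function.Bijective φ := by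
    constructor
    · rw [injective_iff_map_eq_one]
      rintro ⟨a, b⟩ hab
      have h1 : (a : G) * b = 1 := by rw [← hφ, hab]; rfl
      have h2 : (b : G) ∈ F ⊓ S := by
        refine ⟨?_, b.2⟩
        have h3 : (b : G) = (a : G)⁻¹ := eq_inv_of_mul_eq_one_right h1
        have h4 : (a : G)⁻¹ ∈ F := inv_mem (hXF a.2)
        rw [← h3] at h4
        exact h4
      rw [hFS, mem_bot] at h2
      rw [h2, mul_one] at h1
      exact Prod.ext (Subtype.ext h1) (Subtype.ext h2)
    · rintro ⟨c, hc⟩
      obtain ⟨x, hx, s, hs, rfl⟩ := hex c hc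
      exact ⟨(⟨x, hx⟩, ⟨s, hs⟩), Subtype.ext (hφ _ _)⟩
  let ψ := MulEquiv.ofBijective φ hbij
  refine ⟨(e.toMonoidHom.comp (MonoidHom.snd ↥X ↥S)).comp ψ.symm.toMonoidHom, ?_, ?_⟩
  · intro y
    refine ⟨ψ (1, e.symm y), ?_⟩
    simp only [_root_.MulEquiv.toMonoidHom_eq_coe, _root_.MonoidHom.coe_comp, _root_.MonoidHom.coe_coe, _root_.MonoidHom.coe_snd, _root_.Function.comp_apply, _root_.MulEquiv.symm_apply_apply, _root_.MulEquiv.apply_symm_apply]
  · ext c
    obtain ⟨⟨a, b⟩, rfl⟩ := ψ.surjective c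
    rw [MonoidHom.mem_ker, mem_subgroupOf]
    have h1 : ((ψ (a, b) : ↥(centralizer (X : Set G))) : G) = a * b := hφ a b
    rw [h1]
    have h2 : ((e.toMonoidHom.comp (MonoidHom.snd ↥X ↥S)).comp ψ.symm.toMonoidHom) (ψ (a, b)) = e b := by
      simp only [_root_.MulEquiv.toMonoidHom_eq_coe, _root_.MonoidHom.coe_comp, _root_.MonoidHom.coe_coe, _root_.MonoidHom.coe_snd, _root_.Function.comp_apply, _root_.MulEquiv.symm_apply_apply]
    rw [h2]
    constructor
    · intro h3
      have h4 : b = 1 := e.injective (h3.trans (map_one e).symm)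
      rw [h4]
      simp
    · intro h3
      have h4 : (b : G) ∈ F ⊓ S := by
        refine ⟨?_, b.2⟩
        have h5 := mul_mem (inv_mem (hXF a.2)) (hXF h3)
        rwa [inv_mul_cancel_left] at h5
      rw [hFS, mem_bot] at h4
      have h5 : b = 1 := Subtype.ext h4
      rw [h5, map_one]

/-- the version for an element of prime order -/
theorem exists_surj_elt {G : Type*} [Group G] {m n p : ℕ} {D : Set G} {x : G}
    (hx : orderOf x = p) (h : Cfsg.Agent.H838.Transport.NormStr m n D (zpowers x)) :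
    ∃ f : ↥(centralizer ({x} : Set G)) →* Equiv.Perm (Fin n), Function.Surjective f ∧ Nat.card f.ker = p := by
  have hX : zpowers x ≤ centralizer ((zpowers x : Subgroup G) : Set G) := by
    rw [← centralizer_zpowers, zpowers_le, mem_centralizer_singleton_iff]
  obtain ⟨f, hf, hk⟩ := exists_surj hX h
  have h1 : Nat.card f.ker = p := by
    rw [hk, Nat.card_congr (subgroupOfEquivOfLe hX).toEquiv, Nat.card_zpowers, hx]
  have key : ∀ A : Subgroup G, A = centralizer ((zpowers x : Subgroup G) : Set G) →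
      ∃ f : ↥A →* Equiv.Perm (Fin n), Function.Surjective f ∧ Nat.card f.ker = p := by
    rintro A rfl
    exact ⟨f, hf, h1⟩
  exact key _ (centralizer_zpowers x)

/-! ### `S₇` and `S₅` -/

theorem im_five_perm : IM 5 (Equiv.Perm (Fin 7)) := by
  have h := H621.AltChar.irr_b (G := Equiv.Perm (Fin 7)) (Ω := Fin 7) (by simp) (by
    exact Equiv.Perm.isMultiplyPretransitive (Fin 7) 4)
  refine IM.of_apply_one h (n := 15) ?_ (by norm_num)
  have h1 : H621.AltChar.nf (Fin 7) (1 : Equiv.Perm (Fin 7)) = 7 := by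
    rw [H621.AltChar.nf_one]; simp
  have h2 : H621.AltChar.nu (Fin 7) (1 : Equiv.Perm (Fin 7)) = 0 := H621.AltChar.nu_one _ _
  show ((H621.AltChar.nf (Fin 7) (1 : Equiv.Perm (Fin 7)) : ℂ) ^ 2 - 3 * H621.AltChar.nf (Fin 7) (1 : Equiv.Perm (Fin 7))
    + 2 - H621.AltChar.nu (Fin 7) (1 : Equiv.Perm (Fin 7))) / 2 = _
  rw [h1, h2]
  norm_num

theorem card_cl_five : Nat.card (ConjClasses (Equiv.Perm (Fin 5))) ≤ 7 := H540.SmallSym.card_conjClasses_five

/-! ### `p = 5` and `p = 7` -/

theorem im_five : IM 5 Fi23 := by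
  have : Fact (Nat.Prime 5) := ⟨by norm_num⟩
  have hc := card_G
  obtain ⟨x, hx⟩ := exists_prime_orderOf_dvd_card' (G := Fi23) 5 (by rw [hc]; norm_num)
  obtain ⟨f, hf, -⟩ := exists_surj_elt hx
    (H838.Fi23.five_main (zpowers x) (by rw [Nat.card_zpowers, hx]))
  refine im_of_cent hx (im_five_perm.of_surjective f hf) ?_ (by rw [hc]; norm_num)
  intro h
  have h1 := h.trans (Subgroup.card_subgroup_dvd_card _)
  rw [hc] at h1
  revert h1
  norm_num

theorem im_seven : IM 7 Fi23 := by
  have : Fact (Nat.Prime 7) := ⟨by norm_num⟩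
  have hc := card_G
  obtain ⟨x, hx⟩ := exists_prime_orderOf_dvd_card' (G := Fi23) 7 (by rw [hc]; norm_num)
  obtain ⟨f, hf, hk⟩ := exists_surj_elt hx
    (H839.Fi23.seven_main (zpowers x) (by rw [Nat.card_zpowers, hx]))
  refine H593.IMCount.IM_of_count_surjective (x := x) ⟨1, by rw [hx, pow_one]⟩ f hf
    (IsPGroup.iff_card.2 ⟨1, by rw [hk, pow_one]⟩) ?_
  have h1 : (Nat.card (centralizer ({x} : Set Fi23))).factorization 7 ≤ 1 := by
    by_contra h
    push Not at h
    have h2 : 7 ^ 2 ∣ Nat.card (centralizer ({x} : Set Fi23)) :=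
      (Nat.pow_dvd_pow 7 h).trans (Nat.ordProj_dvd _ _)
    have h3 := h2.trans (Subgroup.card_subgroup_dvd_card _)
    rw [hc] at h3
    revert h3
    norm_num
  have h2 : H593.IMCount.numReg 7 (Equiv.Perm (Fin 5)) ≤ 7 :=
    (H593.IMCount.numReg_le_card).trans card_cl_five
  have h3 : 7 ^ (Nat.card (centralizer ({x} : Set Fi23))).factorization 7 ≤ 7 ^ 1 :=
    Nat.pow_le_pow_right (by norm_num) h1
  calc 7 ^ (Nat.card (centralizer ({x} : Set Fi23))).factorization 7 * H593.IMCount.numReg 7 (Equiv.Perm (Fin 5))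
      ≤ 7 ^ 1 * 7 := Nat.mul_le_mul h3 h2
    _ < 50 := by norm_num
    _ ≤ _ := H870.Fi23Fix.fifty_le

/-! ### the rank 3 character -/

theorem exists_r3 : ∃ R, R3 Fi23 (Fi23 ⧸ SporRec.Fi23Index.H) R 3510 28160 := by
  obtain ⟨q₁, q₂, h1, h2⟩ := SporRec.Fi23Index.orbits
  exact R3.of_index _ SporRec.Fi23Index.index_H h1 h2 (by norm_num) (by norm_num) (by norm_num)

theorem ne_half (f D : ℕ) (h : f + f = 3510 + 28160) : f * f * D ≠ (1 + 3510 + 28160) * 3510 * 28160 := by
  have h1 : f = 15835 := by omega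
  subst h1
  omega

theorem dvd135 : ∀ e < 311, e * e ∣ 3057043275 → e ∣ 135 := by decide +kernel

theorem im_two : IM 2 Fi23 := by
  obtain ⟨R, hR⟩ := exists_r3
  refine im_of_degrees hR fun f g D h1 h2 h3 => ?_
  by_contra hcon
  push Not at hcon
  obtain ⟨hf, hg⟩ := hcon
  have hne : f ≠ g := by
    rintro rfl
    exact ne_half f D h1 h2
  obtain ⟨d, rfl⟩ := h3 hne
  norm_num at h1 h2
  have hfg : Nat.Coprime (2 ^ 10) (f * g) :=
    Nat.Coprime.pow_left 10 (Nat.Coprime.mul_right ((Nat.Prime.coprime_iff_not_dvd Nat.prime_two).2 hf)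
      ((Nat.Prime.coprime_iff_not_dvd Nat.prime_two).2 hg))
  have h4 : 2 ^ 10 ∣ d * d := by
    refine hfg.dvd_of_dvd_mul_left ?_
    rw [h2]
    norm_num
  have h5 : 32 ∣ d := by
    have h6 : 32 ^ 2 ∣ d ^ 2 := by
      rw [pow_two d]
      exact h4
    exact (Nat.pow_dvd_pow_iff (by norm_num)).1 h6
  obtain ⟨e, rfl⟩ := h5
  have h6 : f * g * (e * e) = 3057043275 := by
    have h7 : 1024 * (f * g * (e * e)) = 1024 * 3057043275 := by
      rw [← show (3130412313600 : ℕ) = 1024 * 3057043275 from by norm_num, ← h2]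
      ring
    exact Nat.eq_of_mul_eq_mul_left (by norm_num) h7
  have hf0 : 0 < f := Nat.pos_of_ne_zero (by rintro rfl; omega)
  have hg0 : 0 < g := Nat.pos_of_ne_zero (by rintro rfl; omega)
  have hfg2 : 31669 ≤ f * g := by
    rcases Nat.lt_or_ge f g with h | h
    · nlinarith only [h1, hf0, h]
    · nlinarith only [h1, hg0, h]
  have he : e < 311 := by
    by_contra h
    push Not at h
    nlinarith only [h2, hfg2, h]
  have h7 := dvd135 e he ⟨f * g, by rw [← h6]; ring⟩
  have h8 : e ∈ Nat.divisors 135 := Nat.mem_divisors.2 ⟨h7, by norm_num⟩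
  have h9 : Nat.divisors 135 = {1, 3, 5, 9, 15, 27, 45, 135} := by decide +kernel
  rw [h9] at h8
  -- the square `(f - g)²`
  have hg' : g = 31670 - f := by (clear * - h1; omega)
  obtain ⟨t, ht⟩ : ∃ t : ℤ, t = (f : ℤ) - g := ⟨_, rfl⟩
  have h10 : t * t = 31670 * 31670 - 4 * (f * g) := by
    have h11 : (f : ℤ) + g = 31670 := by exact_mod_cast h1
    rw [ht]
    linear_combination ((f : ℤ) + g + 31670) * h11
  obtain ⟨s, hs0, hs⟩ : ∃ s : ℤ, 0 ≤ s ∧ s * s = t * t := ⟨|t|, abs_nonneg t, abs_mul_abs_self t⟩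
  rw [← hs] at h10
  have h6' : ((f : ℤ) * g) * (e * e) = 3057043275 := by exact_mod_cast h6
  have nosq : ∀ a v : ℤ, 0 ≤ a → a * a < v → v < (a + 1) * (a + 1) → s * s ≠ v := by
    intro a v ha h1 h2 h3
    rw [← h3] at h1 h2
    have h4 : a < s := by nlinarith only [hs0, h1]
    have h5 : s < a + 1 := by nlinarith only [hs0, ha, h2]
    omega
  simp only [Finset.mem_insert, Finset.mem_singleton] at h8
  rcases h8 with rfl | rfl | rfl | rfl | rfl | rfl | rfl | rfl
  · linarith only [h10, h2, _root_.mul_self_nonneg (s : ℤ)]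
  · push_cast at h6'
    have : (f : ℤ) * g = 339671475 := by omega
    linarith only [h10, h2, _root_.mul_self_nonneg (s : ℤ)]
  · push_cast at h6'
    have : (f : ℤ) * g = 122281731 := by omega
    exact nosq 22668 513861976 (by norm_num) (by norm_num) (by norm_num) (by rw [h10, this]; norm_num)
  · push_cast at h6'
    have : (f : ℤ) * g = 37741275 := by omega
    exact nosq 29189 852023800 (by norm_num) (by norm_num) (by norm_num) (by rw [h10, this]; norm_num)
  · push_cast at h6'
    have : (f : ℤ) * g = 13586859 := by omega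
    exact nosq 30800 948641464 (by norm_num) (by norm_num) (by norm_num) (by rw [h10, this]; norm_num)
  · push_cast at h6'
    have : (f : ℤ) * g = 4193475 := by omega
    exact nosq 31404 986215000 (by norm_num) (by norm_num) (by norm_num) (by rw [h10, this]; norm_num)
  · push_cast at h6'
    have : (f : ℤ) * g = 1509651 := by omega
    exact nosq 31574 996950296 (by norm_num) (by norm_num) (by norm_num) (by rw [h10, this]; norm_num)
  · push_cast at h6'
    have : (f : ℤ) * g = 167739 := by omega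
    exact nosq 31659 1002317944 (by norm_num) (by norm_num) (by norm_num) (by rw [h10, this]; norm_num)

theorem fac {N p n m : ℕ} (hp : p.Prime) (hN : N = p ^ n * m) (hm : ¬ p ∣ m) : N.factorization p = n := by
  have hm0 : m ≠ 0 := by
    rintro rfl
    exact hm (dvd_zero p)
  rw [hN, Nat.factorization_mul (pow_ne_zero _ hp.pos.ne') hm0, Nat.factorization_pow]
  simp [hp.factorization, Nat.factorization_eq_zero_of_not_dvd hm]

/-- **Ito-Michler for `Fi₂₃`.** -/
theorem im_fi23 {S : Type u} [Group S] (h : Cfsg.Spor.IsoFi23 S) {p : ℕ} [hp : Fact p.Prime]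
    (hd : p ∣ Nat.card S) : IM p S := by
  obtain ⟨e⟩ := h
  refine IM.of_equiv e ?_
  rw [Nat.card_congr e.toEquiv, card_G] at hd
  obtain ⟨R, hR⟩ := exists_r3
  have hpr := hp.out
  have h5 : p ∣ 2 ^ 18 * 3 ^ 13 * 5 ^ 2 * 7 * 11 * 13 * 17 * 23 := by
    norm_num
    exact hd
  have key : p = 2 ∨ p = 3 ∨ p = 5 ∨ p = 7 ∨ p = 11 ∨ p = 13 ∨ p = 17 ∨ p = 23 := by
    have two {q : ℕ} (hq : q.Prime) {k : ℕ} (h : p ∣ q ^ k) : p = q :=
      (Nat.prime_dvd_prime_iff_eq hpr hq).1 (hpr.dvd_of_dvd_pow h)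
    have one {q : ℕ} (hq : q.Prime) (h : p ∣ q) : p = q := (Nat.prime_dvd_prime_iff_eq hpr hq).1 h
    rcases hpr.dvd_mul.1 h5 with h5 | h5
    · rcases hpr.dvd_mul.1 h5 with h5 | h5
      · rcases hpr.dvd_mul.1 h5 with h5 | h5
        · rcases hpr.dvd_mul.1 h5 with h5 | h5
          · rcases hpr.dvd_mul.1 h5 with h5 | h5
            · rcases hpr.dvd_mul.1 h5 with h5 | h5
              · rcases hpr.dvd_mul.1 h5 with h5 | h5
                · have := two (by norm_num) h5; tauto
                · have := two (by norm_num) h5; (clear * - p this; tauto)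
              · have := two (by norm_num) h5; (clear * - this; tauto)
            · have := one (by norm_num) h5; (clear * - this; tauto)
          · have := one (by norm_num) h5; (clear * - this; tauto)
        · have := one (by norm_num) h5; (clear * - this; tauto)
      · have := one (by norm_num) h5; (clear * - this; tauto)
    · have := one (by norm_num) h5; (clear * - this; tauto)
  rcases key with rfl | rfl | rfl | rfl | rfl | rfl | rfl | rfl
  · exact im_two
  · refine im_of_odd hR ne_half ?_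
    rw [fac (n := 7) (m := 391 * 130 * 28160) (by norm_num) (by norm_num) (by norm_num)]
    decide
  · exact im_five
  · exact im_seven
  · refine im_of_odd hR ne_half ?_
    rw [fac (n := 1) (m := 31671 * 3510 * 2560) (by norm_num) (by norm_num) (by norm_num)]
    decide
  · refine im_of_odd hR ne_half ?_
    rw [fac (n := 1) (m := 31671 * 270 * 28160) (by norm_num) (by norm_num) (by norm_num)]
    decide
  · refine im_of_odd hR ne_half ?_
    rw [fac (n := 1) (m := 1863 * 3510 * 28160) (by norm_num) (by norm_num) (by norm_num)]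
    decide
  · refine im_of_odd hR ne_half ?_
    rw [fac (n := 1) (m := 1377 * 3510 * 28160) (by norm_num) (by norm_num) (by norm_num)]
    decide

end Cfsg.Agent.H870.IMFi23
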